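import Groth.Agent.Lib.Euler.Rank
import Groth.Agent.Lib.QCoh.SupportPullback
import Mathlib.AlgebraicGeometry.IdealSheaf.Subscheme
import Mathlib.AlgebraicGeometry.Morphisms.ClosedImmersion

/-!
# The closed subscheme where a homomorphism into a finite locally free module vanishes
-/

set_option linter.all false
set_option backward.isDefEq.respectTransparency false

universe u

open CategoryTheory AlgebraicGeometry TopologicalSpace Opposite
open scoped TensorProduct

namespace GrothLib.HomZero10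

variable {X : Scheme.{u}} {E F : X.Modules}

/-- The stalk of a homomorphism, as a linear map. -/
noncomputable def stMap (v : E ⟶ F) (x : X) :
    E.presheaf.stalk x →ₗ[X.presheaf.stalk x] F.presheaf.stalk x :=
  ((OX.stalk x).map v).hom

theorem stMap_germ (v : E ⟶ F) {U : X.Opens} (x : X) (hx : x ∈ U) (m : Γ(E, U)) :
    stMap v x (E.presheaf.germ U x hx m) = F.presheaf.germ U x hx (v.app U m) :=
  OX.stalkMapHom_germ _ U hx m

/-- The ideal of the local ring spanned by the coordinates of the image of the stalk. -/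
noncomputable def coeffIdeal (v : E ⟶ F) (x : X) : Ideal (X.presheaf.stalk x) :=
  Ideal.span {a | ∃ (ψ : F.presheaf.stalk x →ₗ[X.presheaf.stalk x] X.presheaf.stalk x) (m : E.presheaf.stalk x),
    ψ (stMap v x m) = a}

/-- The ideal of the coordinates of the images of sections with respect to a frame. -/
noncomputable def frameIdeal (v : E ⟶ F) {W : X.Opens} {n : ℕ} {e : Fin n → Γ(F, W)}
    (he : FinCov.IsFrame F W e) : Ideal Γ(X, W) :=
  Ideal.span {a | ∃ (z : Γ(E, W)) (i : Fin n), (he.basis W le_rfl).repr (v.app W z) i = a}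

theorem germ_eq_sum {W : X.Opens} {n : ℕ} {e : Fin n → Γ(F, W)} (he : FinCov.IsFrame F W e) (x : X) (hx : x ∈ W)
    (z : Γ(F, W)) :
    F.presheaf.germ W x hx z = ∑ i, X.presheaf.germ W x hx ((he.basis W le_rfl).repr z i) •
      F.presheaf.germ W x hx (e i) := by
  conv_lhs => rw [← (he.basis W le_rfl).sum_repr z]
  rw [map_sum]
  refine Finset.sum_congr rfl fun i _ => ?_
  rw [WeakAss.germ_smul, he.basis_apply]
  congr 1
  exact TopCat.Presheaf.germ_res_apply F.presheaf _ x hx (e i)

theorem coeffIdeal_eq_map [E.IsQuasicoherent] [F.IsQuasicoherent] (v : E ⟶ F) {W : X.Opens} (hW : IsAffineOpen W)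
    {n : ℕ} {e : Fin n → Γ(F, W)} (he : FinCov.IsFrame F W e) (x : X) (hx : x ∈ W) :
    coeffIdeal v x = (frameIdeal v he).map (X.presheaf.germ W x hx).hom := by
  apply le_antisymm
  · refine Ideal.span_le.2 ?_
    rintro _ ⟨ψ, m, rfl⟩
    obtain ⟨c, z, hc, hz⟩ := WeakAss.exists_smul_eq_germ hW hx m
    have hu : IsUnit (X.presheaf.germ W x hx c) :=
      (Scheme.mem_basicOpen _ c x hx).mp (WeakAss.notMem_primeAt_iff.mp hc)
    rw [SetLike.mem_coe, ← Ideal.unit_mul_mem_iff_mem _ hu, ← smul_eq_mul, ← map_smul, ← map_smul, hz,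
      stMap_germ, germ_eq_sum he, map_sum]
    refine Submodule.sum_mem _ fun i _ => ?_
    rw [map_smul, smul_eq_mul]
    exact Ideal.mul_mem_right _ _ (Ideal.mem_map_of_mem _ (Ideal.subset_span ⟨z, i, rfl⟩))
  · rw [frameIdeal, Ideal.map_span, Ideal.span_le]
    rintro _ ⟨_, ⟨z, i, rfl⟩, rfl⟩
    obtain ⟨b⟩ := Euler.stalk_basis_of_frame he hx
    let L := Fintype.linearCombination (X.presheaf.stalk x) fun i => F.presheaf.germ W x hx (e i)
    have hsurj : Function.Surjective L := fun m => by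
      obtain ⟨c, y, hc, hy⟩ := WeakAss.exists_smul_eq_germ hW hx m
      obtain ⟨w, hw⟩ : IsUnit (X.presheaf.germ W x hx c) :=
        (Scheme.mem_basicOpen _ c x hx).mp (WeakAss.notMem_primeAt_iff.mp hc)
      refine ⟨(↑w⁻¹ : X.presheaf.stalk x) • fun i => X.presheaf.germ W x hx ((he.basis W le_rfl).repr y i), ?_⟩
      rw [map_smul, Fintype.linearCombination_apply, ← germ_eq_sum he, ← hy, smul_smul, ← hw, Units.inv_mul, one_smul]
    have hinj : Function.Injective L := by
      have : Function.Surjective (b.equivFun.toLinearMap ∘ₗ L) := b.equivFun.surjective.comp hsurj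
      exact Function.Injective.of_comp (f := b.equivFun.toLinearMap)
        (OrzechProperty.injective_of_surjective_endomorphism _ this)
    let e' := LinearEquiv.ofBijective L ⟨hinj, hsurj⟩
    refine Ideal.subset_span ⟨LinearMap.proj i ∘ₗ e'.symm.toLinearMap, E.presheaf.germ W x hx z, ?_⟩
    rw [stMap_germ]
    have h : e'.symm (F.presheaf.germ W x hx (v.app W z)) =
        fun i => X.presheaf.germ W x hx ((he.basis W le_rfl).repr (v.app W z) i) := by
      rw [LinearEquiv.symm_apply_eq, germ_eq_sum he]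
      rfl
    exact congrFun h i

/-- Sections whose germs lie in the coordinate ideals. -/
noncomputable def sectionIdeal (v : E ⟶ F) (U : X.Opens) : Ideal Γ(X, U) :=
  ⨅ x : U, (coeffIdeal v x.1).comap (X.presheaf.germ U x.1 x.2).hom

theorem mem_sectionIdeal {v : E ⟶ F} {U : X.Opens} {a : Γ(X, U)} :
    a ∈ sectionIdeal v U ↔ ∀ (x : X) (hx : x ∈ U), X.presheaf.germ U x hx a ∈ coeffIdeal v x := by
  simp [sectionIdeal, Ideal.mem_iInf]

theorem exists_affine_frame (hF : FlatMod.IsFinLocFree F) (x : X) {U : X.Opens} (hxU : x ∈ U) :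
    ∃ W : X.Opens, IsAffineOpen W ∧ x ∈ W ∧ W ≤ U ∧ ∃ (n : ℕ) (e : Fin n → Γ(F, W)), FinCov.IsFrame F W e := by
  obtain ⟨D, n, e, hxD, he⟩ := FinCov.exists_frame_nhd hF x
  obtain ⟨W, hW, hxW, hWD⟩ := exists_isAffineOpen_mem_and_subset (x := x) (U := D ⊓ U) ⟨hxD, hxU⟩
  have hWD' : W ≤ D := fun z hz => (hWD hz).1
  refine ⟨W, hW, hxW, fun z hz => (hWD hz).2, n, fun i => F.presheaf.map (homOfLE hWD').op (e i), fun V hV => ?_⟩
  convert he V (hV.trans hWD') using 5 with c i
  exact Cohom.map_map_apply _ _ _ _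

variable [E.IsQuasicoherent] [F.IsQuasicoherent]

theorem exists_pow_mem (v : E ⟶ F) {W : X.Opens} (hW : IsAffineOpen W) {n : ℕ} {e : Fin n → Γ(F, W)}
    (he : FinCov.IsFrame F W e) (g b : Γ(X, W))
    (hb : ∀ (x : X) (hx : x ∈ W), x ∈ X.basicOpen g → X.presheaf.germ W x hx b ∈ coeffIdeal v x) :
    ∃ N : ℕ, ∀ (x : X) (hx : x ∈ W), X.presheaf.germ W x hx (g ^ N * b) ∈ coeffIdeal v x := by
  let T : Ideal Γ(X, W) := (frameIdeal v he).colon {b}
  obtain ⟨N, hN⟩ : g ∈ T.radical := by
    rw [Ideal.radical_eq_sInf, Ideal.mem_sInf]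
    rintro P ⟨hTP, hP⟩
    by_contra hg
    let y : PrimeSpectrum Γ(X, W) := ⟨P, hP⟩
    have hy : hW.fromSpec y ∈ W := hW.range_fromSpec.le (Set.mem_range_self y)
    letI := TopCat.Presheaf.algebra_section_stalk X.presheaf (⟨hW.fromSpec y, hy⟩ : W)
    haveI : IsLocalization.AtPrime (X.presheaf.stalk (hW.fromSpec y)) y.asIdeal := hW.isLocalization_stalk' y hy
    have hgy : hW.fromSpec y ∈ X.basicOpen g := by
      rw [Scheme.mem_basicOpen _ g _ hy]
      exact IsLocalization.map_units (M := y.asIdeal.primeCompl) (X.presheaf.stalk (hW.fromSpec y)) ⟨g, hg⟩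
    have h := hb _ hy hgy
    rw [coeffIdeal_eq_map v hW he _ hy] at h
    obtain ⟨c, hc, hcb⟩ := (IsLocalization.algebraMap_mem_map_algebraMap_iff (y.asIdeal.primeCompl)
      (X.presheaf.stalk (hW.fromSpec y)) (frameIdeal v he) b).1 h
    exact hc (hTP (Submodule.mem_colon_singleton.2 hcb))
  refine ⟨N, fun x hx => ?_⟩
  rw [coeffIdeal_eq_map v hW he x hx]
  exact Ideal.mem_map_of_mem _ (Submodule.mem_colon_singleton.1 hN)

theorem exists_pow_mem' (hF : FlatMod.IsFinLocFree F) (v : E ⟶ F) {U : X.Opens} (hU : IsAffineOpen U) (g b : Γ(X, U))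
    (hb : ∀ (x : X) (hx : x ∈ U), x ∈ X.basicOpen g → X.presheaf.germ U x hx b ∈ coeffIdeal v x) :
    ∃ N : ℕ, g ^ N * b ∈ sectionIdeal v U := by
  have h : ∀ x : U, ∃ W : X.Opens, x.1 ∈ W ∧ W ≤ U ∧ ∃ N : ℕ, ∀ (z : X) (hz : z ∈ U), z ∈ W →
      X.presheaf.germ U z hz (g ^ N * b) ∈ coeffIdeal v z := by
    intro x
    obtain ⟨W, hW, hxW, hWU, n, e, he⟩ := exists_affine_frame hF x.1 x.2
    obtain ⟨N, hN⟩ := exists_pow_mem v hW he (X.presheaf.map (homOfLE hWU).op g) (X.presheaf.map (homOfLE hWU).op b)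
      fun z hz hzg => by
        rw [TopCat.Presheaf.germ_res_apply]
        refine hb z (hWU hz) ?_
        rw [Scheme.mem_basicOpen _ g z (hWU hz)]
        rw [Scheme.mem_basicOpen _ _ z hz, TopCat.Presheaf.germ_res_apply] at hzg
        exact hzg
    refine ⟨W, hxW, hWU, N, fun z hz hzW => ?_⟩
    have := hN z hzW
    rwa [← map_pow, ← map_mul, TopCat.Presheaf.germ_res_apply] at this
  choose W hxW hWU N hN using h
  obtain ⟨t, ht⟩ := hU.isCompact.elim_finite_subcover (fun x : U => (W x : Set X)) (fun x => (W x).2)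
    fun x hx => Set.mem_iUnion.2 ⟨⟨x, hx⟩, hxW ⟨x, hx⟩⟩
  refine ⟨t.sup N, mem_sectionIdeal.2 fun z hz => ?_⟩
  obtain ⟨x, hxt, hzW⟩ := Set.mem_iUnion₂.1 (ht hz)
  obtain ⟨d, hd⟩ := Nat.le.dest (Finset.le_sup (f := N) hxt)
  rw [← hd, pow_add, mul_comm (g ^ N x), mul_assoc, map_mul]
  exact Ideal.mul_mem_left _ _ (hN x z hz hzW)

/-- The ideal sheaf of the coordinates of a homomorphism into a finite locally free module. -/
noncomputable def idealSheaf (hF : FlatMod.IsFinLocFree F) (v : E ⟶ F) : X.IdealSheafData where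
  ideal U := sectionIdeal v U.1
  map_ideal_basicOpen := fun U g => by
    apply le_antisymm
    · refine Ideal.map_le_iff_le_comap.2 fun a ha => mem_sectionIdeal.2 fun x hx => ?_
      erw [TopCat.Presheaf.germ_res_apply]
      exact mem_sectionIdeal.1 ha x _
    · intro a ha
      haveI := U.2.isLocalization_basicOpen g
      obtain ⟨⟨b, _, m, rfl⟩, hb⟩ := IsLocalization.surj (Submonoid.powers g) a
      have hb' : ∀ (x : X) (hx : x ∈ U.1), x ∈ X.basicOpen g → X.presheaf.germ U.1 x hx b ∈ coeffIdeal v x := by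
        intro x hx hxg
        have h1 : X.presheaf.germ (X.basicOpen g) x hxg (algebraMap Γ(X, U.1) Γ(X, X.basicOpen g) b) =
            X.presheaf.germ U.1 x hx b := TopCat.Presheaf.germ_res_apply X.presheaf _ x hxg b
        rw [← h1, ← hb, map_mul]
        exact Ideal.mul_mem_right _ _ (mem_sectionIdeal.1 ha x hxg)
      obtain ⟨N, hN⟩ := exists_pow_mem' hF v U.2 g b hb'
      have hu : IsUnit (algebraMap Γ(X, U.1) Γ(X, X.basicOpen g) (g ^ m * g ^ N)) :=
        IsLocalization.map_units (M := Submonoid.powers g) Γ(X, X.basicOpen g)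
          ⟨g ^ m * g ^ N, m + N, pow_add g m N⟩
      refine (Ideal.unit_mul_mem_iff_mem _ hu).1 ?_
      rw [map_mul, mul_comm (algebraMap _ _ (g ^ m)), mul_assoc, mul_comm (algebraMap _ _ (g ^ m)) a, hb, ← map_mul]
      exact Ideal.mem_map_of_mem _ hN

omit [E.IsQuasicoherent] [F.IsQuasicoherent] in
theorem tensor_eq_zero_iff {R S M : Type u} [CommRing R] [CommRing S] [Algebra R S] [AddCommGroup M] [Module R M]
    [Module.Free R M] (m : M) :
    ((1 : S) ⊗ₜ[R] m = 0) ↔ ∀ ψ : M →ₗ[R] R, algebraMap R S (ψ m) = 0 := by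
  constructor
  · intro h ψ
    have := congrArg (TensorProduct.rid R S ∘ ψ.lTensor S) h
    simpa [Algebra.algebraMap_eq_smul_one] using this
  · intro h
    have b := Module.Free.chooseBasis R M
    rw [← b.linearCombination_repr m, Finsupp.linearCombination_apply, Finsupp.sum, TensorProduct.tmul_sum]
    refine Finset.sum_eq_zero fun i _ => ?_
    rw [← TensorProduct.smul_tmul, Algebra.smul_def, mul_one]
    rw [show algebraMap R S (b.repr m i) = 0 from h (b.coord i), TensorProduct.zero_tmul]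

theorem pullback_stalk_eq_zero_iff (hF : FlatMod.IsFinLocFree F) (v : E ⟶ F) {T : Scheme.{u}} (f : T ⟶ X) (t : T) :
    (OX.stalk t).map ((Scheme.Modules.pullback f).map v) = 0 ↔
      coeffIdeal v (f t) ≤ RingHom.ker (f.stalkMap t).hom := by
  let φ := (f.stalkMap t).hom
  letI := φ.toAlgebra
  have hnat := (QCoh.stalkPullbackIso f t).hom.naturality v
  have h0 : (OX.stalk t).map ((Scheme.Modules.pullback f).map v) = 0 ↔
      (ModuleCat.extendScalars.{u, u, u} φ).map ((OX.stalk (f t)).map v) = 0 := by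
    change ((Scheme.Modules.pullback f ⋙ OX.stalk t).map v) = 0 ↔
      (OX.stalk (f t) ⋙ ModuleCat.extendScalars.{u, u, u} φ).map v = 0
    constructor
    · intro h
      refine (NatIso.naturality_1 (QCoh.stalkPullbackIso f t) v).symm.trans ?_
      rw [h, Limits.zero_comp, Limits.comp_zero]
    · intro h
      refine (NatIso.naturality_2 (QCoh.stalkPullbackIso f t) v).symm.trans ?_
      rw [h, Limits.zero_comp, Limits.comp_zero]
  obtain ⟨D, n, e, hxD, he⟩ := FinCov.exists_frame_nhd hF (f t)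
  obtain ⟨b⟩ := Euler.stalk_basis_of_frame he hxD
  haveI := Module.Free.of_basis b
  rw [h0]
  constructor
  · intro h
    refine Ideal.span_le.2 ?_
    rintro _ ⟨ψ, m, rfl⟩
    refine (tensor_eq_zero_iff (S := T.presheaf.stalk t) _).1 ?_ ψ
    exact congr($h ((1 : T.presheaf.stalk t) ⊗ₜ[X.presheaf.stalk (f t)] m))
  · intro h
    ext m
    have := (tensor_eq_zero_iff (S := T.presheaf.stalk t) (stMap v (f t) m)).2 fun ψ =>
      RingHom.mem_ker.1 (h (Ideal.subset_span ⟨ψ, m, rfl⟩))
    exact this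

/-- The subscheme of the ideal sheaf represents the vanishing of the pulled back homomorphism. -/
theorem factors_iff (hF : FlatMod.IsFinLocFree F) (v : E ⟶ F) {T : Scheme.{u}} (f : T ⟶ X) :
    (∃ g : T ⟶ (idealSheaf hF v).subscheme, g ≫ (idealSheaf hF v).subschemeι = f) ↔
      (Scheme.Modules.pullback f).map v = 0 := by
  have hle : (∃ g : T ⟶ (idealSheaf hF v).subscheme, g ≫ (idealSheaf hF v).subschemeι = f) ↔
      idealSheaf hF v ≤ f.ker := by
    constructor
    · rintro ⟨g, hg⟩
      conv_rhs => rw [← hg]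
      refine le_trans ?_ (Scheme.Hom.le_ker_comp g _)
      rw [Scheme.IdealSheafData.ker_subschemeι]
    · intro h
      exact ⟨IsClosedImmersion.lift (idealSheaf hF v).subschemeι f (by rwa [Scheme.IdealSheafData.ker_subschemeι]),
        IsClosedImmersion.lift_fac _ _ _⟩
  rw [hle, Scheme.Hom.ker, Scheme.IdealSheafData.le_ofIdeals_iff]
  constructor
  · intro h
    refine Scheme.Modules.hom_ext _ _ fun V => AddCommGrpCat.ext fun s => ?_
    refine QCoh.section_eq_zero_of_germ _ _ fun t ht => ?_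
    have h0 : (OX.stalk t).map ((Scheme.Modules.pullback f).map v) = 0 := by
      rw [pullback_stalk_eq_zero_iff hF]
      obtain ⟨W, hW, hxW, -, n, e, he⟩ := exists_affine_frame hF (f t) (U := ⊤) trivial
      rw [coeffIdeal_eq_map v hW he _ hxW, Ideal.map_le_iff_le_comap]
      intro a ha
      have h1 : a ∈ sectionIdeal v W := mem_sectionIdeal.2 fun z hz => by
        rw [coeffIdeal_eq_map v hW he z hz]
        exact Ideal.mem_map_of_mem _ ha
      have h2 : f.app W a = 0 := h ⟨W, hW⟩ h1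
      rw [Ideal.mem_comap, RingHom.mem_ker]
      erw [Scheme.Hom.germ_stalkMap_apply, h2, map_zero]
    refine (stMap_germ ((Scheme.Modules.pullback f).map v) t ht s).symm.trans ?_
    rw [stMap, h0]
    rfl
  · intro h U a ha
    rw [RingHom.mem_ker]
    refine TopCat.Presheaf.section_ext T.sheaf _ _ 0 fun t ht => ?_
    have h0 : (OX.stalk t).map ((Scheme.Modules.pullback f).map v) = 0 := by rw [h, Functor.map_zero]
    have := (pullback_stalk_eq_zero_iff hF v f t).1 h0 (mem_sectionIdeal.1 ha (f t) ht)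
    rw [RingHom.mem_ker] at this
    erw [Scheme.Hom.germ_stalkMap_apply] at this
    exact this.trans (map_zero _).symm

end GrothLib.HomZero10
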